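import Groth.Agent.EtBCFib.PushCongr

/-!
# Pullback of classes around a square
-/

set_option autoImplicit false
set_option linter.style.haveILetI false

universe u

open CategoryTheory CategoryTheory.Limits AlgebraicGeometry Opposite

namespace Groth.Agent.EtBCFib

set_option backward.isDefEq.respectTransparency false
set_option backward.isDefEq.respectTransparency.types false

open EtContLib

variable {X Y Xb Yb : Scheme.{u}} (h : Y ⟶ X) (p : Xb ⟶ X) (hb : Yb ⟶ Xb) (pY : Yb ⟶ Y) (w : hb ≫ p = pY ≫ h)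
  [PreservesFiniteLimits (EtCoh.pull h)] [PreservesFiniteLimits (EtCoh.pull p)]
  [PreservesFiniteLimits (EtCoh.pull hb)] [PreservesFiniteLimits (EtCoh.pull pY)]

theorem Hpull_eq_then {A B : Scheme.{u}} (f : A ⟶ B) [PreservesFiniteLimits (EtCoh.pull f)] (H : EtCoh.Ab B) (q : ℕ)
    (e : EtCoh.H B H q) : EtLim.HpullThen f H (𝟙 ((EtCoh.pull f).obj H)) q e = EtCore.Hpull f H q e := by
  show (EtCoh.HF _ q).map (𝟙 _) (EtCore.Hpull f H q e) = _
  rw [CategoryTheory.Functor.map_id]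
  rfl

/-- the comparison of inverse images of a composite -/
noncomputable abbrev viaHom {A B C : Scheme.{u}} (f : A ⟶ B) (t : B ⟶ C) (k : A ⟶ C) (e : f ≫ t = k) (F : EtCoh.Ab C) :
    (EtCoh.pull f).obj ((EtCoh.pull t).obj F) ⟶ (EtCoh.pull k).obj F :=
  ((EtCore.pullComp f t).symm ≪≫ EtCore.pullCongr e).hom.app F

theorem HpullVia_eq_then {A B C : Scheme.{u}} (f : A ⟶ B) (t : B ⟶ C) (k : A ⟶ C) (e : f ≫ t = k)
    [PreservesFiniteLimits (EtCoh.pull f)] (F : EtCoh.Ab C) (q : ℕ) (β : EtCoh.H B ((EtCoh.pull t).obj F) q) :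
    EtCore.HpullVia f t k e F q β = EtLim.HpullThen f _ (viaHom f t k e F) q β := rfl

omit [PreservesFiniteLimits (EtCoh.pull h)] [PreservesFiniteLimits (EtCoh.pull p)]
  [PreservesFiniteLimits (EtCoh.pull hb)] [PreservesFiniteLimits (EtCoh.pull pY)] in
theorem comp2_viaHom {A B C : Scheme.{u}} (f : A ⟶ B) (t : B ⟶ C) (k : A ⟶ C) (e : f ≫ t = k) (F : EtCoh.Ab C)
    {M : EtCoh.Ab A} (c : (EtCoh.pull k).obj F ⟶ M) : comp2 f t k e (𝟙 _) (viaHom f t k e F ≫ c) = c := by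
  subst e
  simp [comp2, viaHom, EtCore.pullCongr]

theorem HofPush_map_map {A B : Scheme.{u}} (f : A ⟶ B) [PreservesFiniteLimits (EtCoh.pull f)] (M : EtCoh.Ab A)
    {N N' : EtCoh.Ab B} (a : N ⟶ N') (b : N' ⟶ (EtCoh.push f).obj M) (q : ℕ) (x : EtCoh.H B N q) :
    EtLim.HofPush f M q ((EtCoh.HF B q).map b ((EtCoh.HF B q).map a x)) =
      EtLim.HpullThen f N ((EtCoh.pull f).map (a ≫ b) ≫ (EtCoh.pullPushAdj f).counit.app M) q x := by
  have hp : ∀ y, EtLim.HofPush f M q y =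
      EtLim.HpullThen f ((EtCoh.push f).obj M) ((EtCoh.pullPushAdj f).counit.app M) q y := fun y => rfl
  refine (hp _).trans (Eq.trans ?_ (HpullThen_map_source f (a ≫ b) ((EtCoh.pullPushAdj f).counit.app M) q x).symm)
  refine congrArg (EtLim.HpullThen f ((EtCoh.push f).obj M) ((EtCoh.pullPushAdj f).counit.app M) q) ?_
  rw [HF_map_apply, HF_map_apply, HF_map_apply, Abelian.Ext.comp_assoc_of_third_deg_zero,
    Abelian.Ext.mk₀_comp_mk₀]

theorem HpullVia_comm [PreservesFiniteLimits (EtCoh.pull (pY ≫ h))] (F : EtCoh.Ab X) (q : ℕ) (ζ : EtCoh.H X F q) :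
    EtCore.HpullVia hb p (pY ≫ h) w F q (EtCore.Hpull p F q ζ) =
      EtCore.HpullVia pY h (pY ≫ h) rfl F q (EtCore.Hpull h F q ζ) := by
  rw [HpullVia_eq_then, HpullVia_eq_then, ← Hpull_eq_then p, ← Hpull_eq_then h,
    HpullThen_comp hb p (pY ≫ h) w, HpullThen_comp pY h (pY ≫ h) rfl]
  have e₁ := comp2_viaHom hb p (pY ≫ h) w F (𝟙 _)
  have e₂ := comp2_viaHom pY h (pY ≫ h) rfl F (𝟙 _)
  rw [Category.comp_id] at e₁ e₂
  rw [e₁, e₂]

omit [PreservesFiniteLimits (EtCoh.pull h)] [PreservesFiniteLimits (EtCoh.pull p)] in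
/-- If the pulled back class comes from below, its image in an acyclic sheaf vanishes. -/
theorem image_eq_zero [PreservesFiniteLimits (EtCoh.pull (pY ≫ h))] (F : EtCoh.Ab X) {J : EtCoh.Ab Xb}
    (i : (EtCoh.pull p).obj F ⟶ J) (q : ℕ) (ξ : EtCoh.H Y ((EtCoh.pull h).obj F) q)
    (γ : EtCoh.H Xb ((EtCoh.pull p).obj F) q)
    (hγ : EtCore.HpullVia hb p (pY ≫ h) w F q γ = EtCore.HpullVia pY h (pY ≫ h) rfl F q ξ)
    (hsub : Subsingleton (EtCoh.H Xb J q)) :
    EtLim.HofPush pY ((EtCoh.pull hb).obj J) q ((EtCoh.HF Y q).map (EtCoh.baseChange0 p h pY hb w J)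
      ((EtCoh.HF Y q).map ((EtCoh.pull h).map ((EtCoh.pullPushAdj p).unit.app F ≫ (EtCoh.push p).map i)) ξ)) = 0 := by
  let u : F ⟶ (EtCoh.push p).obj J := (EtCoh.pullPushAdj p).unit.app F ≫ (EtCoh.push p).map i
  let b := (EtCoh.pull h).map u ≫ EtCoh.baseChange0 p h pY hb w J
  let ε : (EtCoh.pull pY).obj ((EtCoh.push pY).obj ((EtCoh.pull hb).obj J)) ⟶ (EtCoh.pull hb).obj J :=
    (EtCoh.pullPushAdj pY).counit.app _
  have hL : EtLim.HofPush pY ((EtCoh.pull hb).obj J) q ((EtCoh.HF Y q).map (EtCoh.baseChange0 p h pY hb w J)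
      ((EtCoh.HF Y q).map ((EtCoh.pull h).map u) ξ)) =
      EtLim.HpullThen pY _ ((EtCoh.pull pY).map b ≫ ε) q ξ :=
    HofPush_map_map pY _ ((EtCoh.pull h).map u) (EtCoh.baseChange0 p h pY hb w J) q ξ
  haveI : IsIso (viaHom hb p (pY ≫ h) w F) := inferInstance
  let c : (EtCoh.pull (pY ≫ h)).obj F ⟶ (EtCoh.pull hb).obj J := inv (viaHom hb p (pY ≫ h) w F) ≫ (EtCoh.pull hb).map i
  have key : viaHom pY h (pY ≫ h) rfl F ≫ c = (EtCoh.pull pY).map b ≫ ε := by
    refine (cancel_epi ((EtCore.pullComp pY h).hom.app F)).1 ?_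
    have hsimp : ∀ β : (EtCoh.pull pY).obj ((EtCoh.pull h).obj F) ⟶ (EtCoh.pull hb).obj J,
        (EtCore.pullComp pY h).hom.app F ≫ β = comp2 pY h (pY ≫ h) rfl (𝟙 _) β := fun β => by
      simp [comp2, EtCore.pullCongr]
    refine (hsimp _).trans (Eq.trans ?_ (hsimp _).symm)
    rw [comp2_viaHom]
    have hc : c = comp2 hb p (pY ≫ h) w (𝟙 _) ((EtCoh.pull hb).map i) := by
      have := comp2_viaHom hb p (pY ≫ h) w F c
      rw [IsIso.hom_inv_id_assoc] at this
      exact this.symm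
    rw [hc]
    apply ((EtCoh.pullPushAdj (pY ≫ h)).homEquiv _ _).injective
    rw [homEquiv_comp2', EtContLib.homEquiv_comp2]
    have e1 : (EtCoh.pullPushAdj pY).homEquiv _ _ ((EtCoh.pull pY).map b ≫ ε) = b := by
      rw [Adjunction.homEquiv_naturality_left]
      simp [ε, Adjunction.homEquiv_unit]
    have e2 : (EtCoh.pullPushAdj h).homEquiv _ _ (𝟙 _) ≫ (EtCoh.push h).map b =
        u ≫ (EtCoh.push p).map ((EtCoh.pullPushAdj hb).unit.app J) ≫ (EtCoh.pushComp p hb).hom.app _ ≫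
          (EtCoh.pushCongr w).hom.app _ ≫ (EtCoh.pushComp h pY).inv.app _ := by
      rw [← Adjunction.homEquiv_naturality_right, Category.id_comp]
      exact (Adjunction.homEquiv_naturality_left _ _ _).trans (congrArg (u ≫ ·) (Equiv.apply_symm_apply _ _))
    have e3 : (EtCoh.pullPushAdj hb).homEquiv _ _ ((EtCoh.pull hb).map i) =
        i ≫ (EtCoh.pullPushAdj hb).unit.app J := by
      rw [Adjunction.homEquiv_unit]
      exact ((EtCoh.pullPushAdj hb).unit.naturality i).symm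
    rw [e1, reassoc_of% e2, e3, Iso.inv_hom_id_app]
    simp [u, Adjunction.homEquiv_unit]
  refine hL.trans ?_
  rw [← key, HpullThen_map_target, ← HpullVia_eq_then, ← hγ, HpullVia_eq_then, ← HpullThen_map_target,
    IsIso.hom_inv_id_assoc]
  have e := HpullThen_map_source hb i (𝟙 _) q γ
  rw [Category.comp_id] at e
  rw [e]
  exact (congrArg (EtLim.HpullThen hb J (𝟙 ((EtCoh.pull hb).obj J)) q)
    (@Subsingleton.elim (EtCoh.H Xb J q) hsub _ 0)).trans (map_zero _)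

end Groth.Agent.EtBCFib
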