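import Groth.Agent.EtContLib.SysConstr

/-!
# Transposes of composites along an equality of morphisms
-/

set_option autoImplicit false

universe u

open CategoryTheory CategoryTheory.Limits AlgebraicGeometry Opposite

namespace Groth.Agent.EtBCFib

set_option backward.isDefEq.respectTransparency false
set_option backward.isDefEq.respectTransparency.types false

theorem pushCongr_rfl_app {X Y : Scheme.{u}} (f : X ⟶ Y) (M : EtCoh.Ab X) :
    (EtCoh.pushCongr (rfl : f = f)).hom.app M = 𝟙 _ := by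
  refine Sheaf.hom_ext (NatTrans.ext (funext fun V => ?_))
  simp [EtCoh.pushCongr, Functor.sheafPushforwardContinuousIso, (EtContLib.pullbackCongr_refl_app f V.unop).1,
    (EtContLib.pullbackCongr_refl_app f V.unop).2]
  exact M.obj.map_id _

theorem homEquiv_comp2' {X Y Z : Scheme.{u}} (f : X ⟶ Y) (g : Y ⟶ Z) (h : X ⟶ Z) (w : f ≫ g = h) {F : EtCoh.Ab Z}
    {G : EtCoh.Ab Y} {M : EtCoh.Ab X} (α : (EtCoh.pull g).obj F ⟶ G) (β : (EtCoh.pull f).obj G ⟶ M) :
    (EtCoh.pullPushAdj h).homEquiv _ _ (EtContLib.comp2 f g h w α β) =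
      (EtCoh.pullPushAdj g).homEquiv _ _ α ≫
        (EtCoh.push g).map ((EtCoh.pullPushAdj f).homEquiv _ _ β) ≫ (EtCoh.pushComp g f).hom.app M ≫
          (EtCoh.pushCongr w).hom.app M := by
  subst w
  rw [pushCongr_rfl_app, Category.comp_id]
  exact EtContLib.homEquiv_comp2 f g α β

theorem pushCongr_app_comp_symm {X Y : Scheme.{u}} {f f' : X ⟶ Y} (w : f = f') (M : EtCoh.Ab X) :
    𝟙 ((EtCoh.push f).obj M) = (EtCoh.pushCongr w).hom.app M ≫ (EtCoh.pushCongr w.symm).hom.app M := by
  subst w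
  exact ((congrArg₂ (· ≫ ·) (pushCongr_rfl_app f M) (pushCongr_rfl_app f M)).trans (Category.comp_id _)).symm

end Groth.Agent.EtBCFib
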