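import Groth.Agent.SiteCmpLib.CxDerived
import Groth.Agent.SiteBase.Horseshoe

/-!
# Vanishing below from vanishing of the composite derived functor
-/

set_option autoImplicit false
set_option linter.style.haveILetI false
set_option backward.isDefEq.respectTransparency false

universe v₁ v₂ v₃ u₁ u₂ u₃

open CategoryTheory CategoryTheory.Limits HomologicalComplex

namespace Groth.Agent.EtBCFib

open Groth.Agent.SiteCmpLib

variable {A : Type u₁} [Category.{v₁} A] [Abelian A] [HasInjectiveResolutions A]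
  {B : Type u₂} [Category.{v₂} B] [Abelian B] [HasInjectiveResolutions B]
  {C : Type u₃} [Category.{v₃} C] [Abelian C]
  (Φ : A ⥤ B) [Φ.Additive] [Φ.PreservesInjectiveObjects] [PreservesFiniteLimits Φ]
  (Ψ : B ⥤ C) [Ψ.Additive] [PreservesFiniteLimits Ψ]

/-- If `R^aΦ X` vanishes for `1 ≤ a ≤ q` and `R^{q+1}(ΨΦ) X` vanishes then so does `R^{q+1}Ψ (Φ X)`. -/
theorem isZero_rightDerived_of_comp (X : A) (q : ℕ) (h : ∀ a, a < q → IsZero ((Φ.rightDerived (a + 1)).obj X))
    (h' : IsZero (((Φ ⋙ Ψ).rightDerived (q + 1)).obj X)) :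
    IsZero ((Ψ.rightDerived (q + 1)).obj (Φ.obj X)) := by
  let I := injectiveResolution X
  let K := (Φ.mapHomologicalComplex (ComplexShape.up ℕ)).obj I.cocomplex
  haveI : ∀ j, Injective (K.X j) := fun j => RDer.injective_mapHomologicalComplex_X Φ I.cocomplex j
  let Δ := SESResLib.derivedLES Ψ
  obtain ⟨e⟩ := CxDerived.nonempty_iso_of_exact Ψ K Δ q
    (fun i hi => (h i (by omega)).of_iso (I.isoRightDerivedObj Φ (i + 1)).symm) 0 q (zero_add q)
  have hj : IsZero (((Ψ.mapHomologicalComplex (ComplexShape.up ℕ)).obj K).homology (q + 1)) :=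
    h'.of_iso (I.isoRightDerivedObj (Φ ⋙ Ψ) (q + 1)).symm
  haveI := CxDerived.mono_j Ψ K Δ q
  let z : Φ.obj X ≅ K.cycles 0 :=
    (Φ.rightDerivedZeroIsoSelf.app X).symm ≪≫ I.isoRightDerivedObj Φ 0 ≪≫ (CochainComplex.isoHomologyπ₀ K).symm
  exact ((IsZero.of_mono (CxDerived.j Ψ K Δ q) hj).of_iso e).of_iso ((Ψ.rightDerived (q + 1)).mapIso z)

end Groth.Agent.EtBCFib
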