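import Groth.Agent.EtBCQ.Kill
import Groth.Agent.EtTorLib.InjTors

/-!
# A sheaf killed by `n` embeds in one acyclic for every direct image
-/

set_option autoImplicit false
set_option linter.style.haveILetI false

universe u

open CategoryTheory CategoryTheory.Limits AlgebraicGeometry

namespace Groth.Agent.EtBCFib

set_option backward.isDefEq.respectTransparency false
set_option backward.isDefEq.respectTransparency.types false

variable {T : Scheme.{u}}

/-- A sheaf killed by `n` embeds in one killed by `n` without higher direct images along any morphism. -/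
theorem exists_hull_all {n : ℕ} (F : EtCoh.Ab T) (hF : EtCoh.KilledBy n F) :
    ∃ (G : EtCoh.Ab T) (j : F ⟶ G), Mono j ∧ EtCoh.KilledBy n G ∧
      ∀ {S' : Scheme.{u}} (g : T ⟶ S') (a : ℕ), IsZero ((EtCoh.Rpush g (a + 1)).obj G) := by
  obtain ⟨⟨I, _, ι, _⟩⟩ := EnoughInjectives.presentation F
  rcases Nat.eq_zero_or_pos n with rfl | hn
  · refine ⟨I, ι, inferInstance, fun U s => zero_smul ℕ s, fun g a => ?_⟩
    exact (EtCoh.push g).isZero_rightDerived_obj_injective_succ a I
  · haveI := EtTorLib.epi_nsmul I hn
    have h0 : ι ≫ (n • 𝟙 I) = 0 := by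
      rw [Preadditive.comp_nsmul, Category.comp_id]
      have := congrArg (· ≫ ι) ((EtFound.killedBy_iff_nsmul n F).1 hF)
      simpa [Preadditive.nsmul_comp] using this
    refine ⟨kernel (n • 𝟙 I), kernel.lift _ ι h0, mono_of_mono_fac (kernel.lift_ι _ ι h0), ?_, fun g a => ?_⟩
    · rw [EtFound.killedBy_iff_nsmul, ← cancel_mono (kernel.ι (n • 𝟙 I)), zero_comp, Preadditive.nsmul_comp,
        Category.id_comp]
      have := kernel.condition (n • 𝟙 I)
      rwa [Preadditive.comp_nsmul, Category.comp_id] at this
    · haveI : (EtCoh.push g).IsRightAdjoint := (EtCoh.pullPushAdj g).isRightAdjoint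
      haveI := EtFound.pull_preservesFiniteLimits g
      haveI : (EtCoh.pull g).PreservesMonomorphisms := preservesMonomorphisms_of_preservesLimitsOfShape _
      haveI : Injective ((EtCoh.push g).obj I) := Injective.injective_of_adjoint (EtCoh.pullPushAdj g) I
      let Sq := ShortComplex.mk (kernel.ι (n • 𝟙 I)) (n • 𝟙 I) (kernel.condition _)
      have hS : Sq.ShortExact := { exact := ShortComplex.exact_of_f_is_kernel _ (kernelIsKernel _) }
      haveI : Injective Sq.X₂ := ‹Injective I›
      haveI : Injective Sq.X₃ := ‹Injective I›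
      haveI : Epi ((EtCoh.push g).map Sq.g) := by
        show Epi ((EtCoh.push g).map (n • 𝟙 I))
        rw [Functor.map_nsmul, CategoryTheory.Functor.map_id]
        exact EtTorLib.epi_nsmul _ hn
      exact EtBCQ.isZero_rightDerived_kernel (EtCoh.push g) hS a

end Groth.Agent.EtBCFib
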