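import Groth.Agent.EtBCFib.Detect
import Groth.Agent.EtBCFib.Edge
import Groth.Agent.EtBCFib.Hull
import Groth.Agent.EtTorLib.PushColim
import Groth.Agent.EtFound.PullStalk
import Groth.Agent.EtBCQ.Local

/-!
# A failure of base change is a failure over a field
-/

set_option autoImplicit false
set_option linter.style.haveILetI false
set_option maxHeartbeats 1600000

universe u

open CategoryTheory CategoryTheory.Limits AlgebraicGeometry Opposite

namespace Groth.Agent.EtBCFib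

set_option backward.isDefEq.respectTransparency false
set_option backward.isDefEq.respectTransparency.types false

/-- the degree range below `q` of base change, for `f` and all its base changes -/
abbrev BCBelow {X S : Scheme.{u}} (f : X ⟶ S) (n q : ℕ) : Prop :=
  ∀ ⦃S₁ X₁ T₁ Y₁ : Scheme.{u}⦄ (p₁ : S₁ ⟶ S) (f₁ : X₁ ⟶ S₁) (r₁ : X₁ ⟶ X),
    IsPullback r₁ f₁ f p₁ →
    ∀ (g₁ : T₁ ⟶ S₁) (h₁ : Y₁ ⟶ X₁) (e₁ : Y₁ ⟶ T₁) (c₁ : IsPullback e₁ h₁ g₁ f₁)
      [QuasiCompact g₁] [QuasiSeparated g₁] [PreservesFiniteLimits (EtCoh.pull e₁)]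
      (G₁ : EtCoh.Ab T₁), EtCoh.KilledBy n G₁ →
      ∀ q₁ : ℕ, q₁ ≤ q - 1 → IsIso (EtBC.bcQ g₁ f₁ h₁ e₁ c₁.w q₁ G₁)

theorem killedBy_map {X Y : Scheme.{u}} (Φ : EtCoh.Ab X ⥤ EtCoh.Ab Y) [Φ.Additive] {n : ℕ} {F : EtCoh.Ab X}
    (hF : EtCoh.KilledBy n F) : EtCoh.KilledBy n (Φ.obj F) := by
  rw [EtFound.killedBy_iff_nsmul] at hF ⊢
  simpa only [Functor.map_nsmul, CategoryTheory.Functor.map_id, Functor.map_zero] using congrArg Φ.map hF

theorem epi_of_surjective_stalks {X : Scheme.{u}} {A B : EtCoh.Ab X} (a : A ⟶ B) [Mono a]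
    (h : ∀ (Ω : Type u) (_ : Field Ω) (_ : IsSepClosed Ω) (ξ : Spec (CommRingCat.of Ω) ⟶ X),
      Function.Surjective ((EtCoh.stalk ξ).map a)) : Epi a := by
  haveI : IsIso a := EtFound.isIso_of_stalks a fun Ω _ _ ξ => by
    haveI : Mono ((EtCoh.stalk ξ).map a) := inferInstance
    exact ⟨(AddCommGrpCat.mono_iff_injective _).1 this, h Ω inferInstance inferInstance ξ⟩
  infer_instance

theorem exact_functor_detect {C : Type*} [Category C] [Abelian C] (Φ : C ⥤ AddCommGrpCat.{u + 1}) [Φ.Additive]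
    [PreservesFiniteLimits Φ] [PreservesFiniteColimits Φ] {A₁ B₁ A₂ B₂ : C} (a₁ : A₁ ⟶ B₁) (a₂ : A₂ ⟶ B₂)
    (l : A₁ ⟶ A₂) (r : B₁ ⟶ B₂) (w : a₁ ≫ r = l ≫ a₂) (hm : Mono (cokernel.map a₁ a₂ l r w))
    (x : Φ.obj B₁) (hx : Φ.map r x ∈ Set.range (Φ.map a₂)) : x ∈ Set.range (Φ.map a₁) := by
  obtain ⟨y, hy⟩ := hx
  haveI : Mono (Φ.map (cokernel.map a₁ a₂ l r w)) := inferInstance
  have hinj := (AddCommGrpCat.mono_iff_injective (Φ.map (cokernel.map a₁ a₂ l r w))).1 inferInstance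
  have h2 : Φ.map (cokernel.π a₁) x = 0 := by
    refine hinj ?_
    rw [map_zero, ← ConcreteCategory.comp_apply, ← Φ.map_comp, cokernel.π_desc, Φ.map_comp,
      ConcreteCategory.comp_apply, ← hy, ← ConcreteCategory.comp_apply, ← Φ.map_comp, cokernel.condition,
      Φ.map_zero]
    rfl
  have hS := (ShortComplex.exact_of_g_is_cokernel (ShortComplex.mk a₁ (cokernel.π a₁) (cokernel.condition a₁))
    (cokernelIsCokernel a₁)).map Φ
  exact (ShortComplex.ab_exact_iff _).1 hS x h2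

section Point

variable {X S : Scheme.{u}} {f : X ⟶ S} {n q : ℕ} (hBC : BCBelow f n q)
  {S' X' T Y : Scheme.{u}} {p : S' ⟶ S} {f' : X' ⟶ S'} {r : X' ⟶ X} (hX : IsPullback r f' f p)
  (g : T ⟶ S') (h : Y ⟶ X') (e : Y ⟶ T) (c : IsPullback e h g f') [QuasiCompact g] [QuasiSeparated g]
  [CompactSpace T] [QuasiSeparatedSpace T]
  [PreservesFiniteLimits (EtCoh.pull e)]

include hBC hX in
/-- A failure of base change is seen by the restriction to some point. -/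
theorem exists_point_failure (hq : 1 ≤ q) (G : EtCoh.Ab T) (hG : EtCoh.KilledBy n G)
    (hfail : ¬ IsIso (EtBC.bcQ g f' h e c.w q G)) :
    ∃ t : T, ¬ Epi (EtBC.bcQ g f' h e c.w q (ptPush G t)) := by
  haveI := EtFound.pull_preservesFiniteLimits f'
  have hB : ∀ G₁ : EtCoh.Ab T, EtCoh.KilledBy n G₁ → IsIso (EtBC.bcQ g f' h e c.w (q - 1) G₁) :=
    fun G₁ hG₁ => hBC p f' r hX g h e c G₁ hG₁ (q - 1) le_rfl
  haveI := EtBCQ.mono_bcQ_of_below g f' h e c.w hq hB G hG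
  have hne : ¬ Epi (EtBC.bcQ g f' h e c.w q G) := fun _ => hfail (isIso_of_mono_of_epi _)
  obtain ⟨Ω, _, _, ξ, hξ⟩ : ∃ (Ω : Type u) (_ : Field Ω) (_ : IsSepClosed Ω) (ξ : Spec (CommRingCat.of Ω) ⟶ X'),
      ¬ Function.Surjective ((EtCoh.stalk ξ).map (EtBC.bcQ g f' h e c.w q G)) := by
    by_contra! H
    exact hne (epi_of_surjective_stalks _ fun Ω _ _ ξ => H Ω inferInstance inferInstance ξ)
  obtain ⟨x, hx⟩ := not_forall.1 hξ
  haveI : QuasiCompact h := MorphismProperty.of_isPullback c ‹QuasiCompact g›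
  haveI : QuasiSeparated h := MorphismProperty.of_isPullback c ‹QuasiSeparated g›
  let Φ := EtCoh.stalk ξ
  haveI : Φ.IsLeftAdjoint := inferInstance
  haveI : Φ.Additive := Functor.additive_of_preserves_binary_products Φ
  haveI : PreservesColimitsOfSize.{u + 1, u + 1} Φ := inferInstance
  haveI : PreservesColimitsOfSize.{u + 1, u + 1} (EtCoh.pull f') :=
    (EtCoh.pullPushAdj f').leftAdjoint_preservesColimits
  haveI : PreservesColimitsOfSize.{u + 1, u + 1} (EtCoh.pull e) :=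
    (EtCoh.pullPushAdj e).leftAdjoint_preservesColimits
  let Src : EtCoh.Ab T ⥤ AddCommGrpCat.{u + 1} := EtCoh.Rpush g q ⋙ EtCoh.pull f' ⋙ Φ
  let Tgt : EtCoh.Ab T ⥤ AddCommGrpCat.{u + 1} := EtCoh.pull e ⋙ EtCoh.Rpush h q ⋙ Φ
  let β : Src ⟶ Tgt :=
    { app := fun A => Φ.map (EtBC.bcQ g f' h e c.w q A)
      naturality := fun A B k =>
        (Φ.map_comp _ _).symm.trans ((congrArg Φ.map (EtBCQ.bcQ_naturality f' g h e c.w k q).symm).trans
          (Φ.map_comp _ _)) }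
  have hn : n • 𝟙 G = 0 := (EtFound.killedBy_iff_nsmul n G).1 hG
  obtain ⟨t, ht⟩ := exists_point_detect G Src Tgt β
    (fun A B i hi hB' y hy => by
      haveI := hi
      exact exact_functor_detect Φ _ _ _ _ (EtBCQ.bcQ_naturality f' g h e c.w i q)
        (EtBCQ.mono_coker_of_below g f' h e c.w hq hB i ((EtFound.killedBy_iff_nsmul n B).2 hB')) y hy)
    hn
    (fun t => by
      haveI : IsFiltered (ULift.{u + 1} (Finset (PieceAt T t))) := by
        classical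
        haveI : Nonempty (ULift.{u + 1} (Finset (PieceAt T t))) := ⟨⟨∅⟩⟩
        haveI : IsDirected (ULift.{u + 1} (Finset (PieceAt T t))) (· ≤ ·) :=
          ⟨fun a b => ⟨⟨a.down ∪ b.down⟩, Finset.subset_union_left, Finset.subset_union_right⟩⟩
        exact isFiltered_of_directed_le_nonempty _
      haveI := EtTorLib.preservesColimitsOfShape_Rpush g q (ULift.{u + 1} (Finset (PieceAt T t)))
      exact inferInstanceAs (PreservesColimitsOfShape _ (EtCoh.Rpush g q ⋙ EtCoh.pull f' ⋙ Φ)))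
    (fun t => by
      haveI : IsFiltered (ULift.{u + 1} (Finset (PieceAt T t))) := by
        classical
        haveI : Nonempty (ULift.{u + 1} (Finset (PieceAt T t))) := ⟨⟨∅⟩⟩
        haveI : IsDirected (ULift.{u + 1} (Finset (PieceAt T t))) (· ≤ ·) :=
          ⟨fun a b => ⟨⟨a.down ∪ b.down⟩, Finset.subset_union_left, Finset.subset_union_right⟩⟩
        exact isFiltered_of_directed_le_nonempty _
      haveI := EtTorLib.preservesColimitsOfShape_Rpush h q (ULift.{u + 1} (Finset (PieceAt T t)))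
      exact inferInstanceAs (PreservesColimitsOfShape _ (EtCoh.pull e ⋙ EtCoh.Rpush h q ⋙ Φ)))
    x (fun ⟨a, ha⟩ => hx ⟨a, ha⟩)
  refine ⟨t, fun _ => ht ?_⟩
  haveI : Epi (Φ.map (EtBC.bcQ g f' h e c.w q (ptPush G t))) := inferInstance
  exact (AddCommGrpCat.epi_iff_surjective _).1 this _

end Point

section Jump

variable {X S : Scheme.{u}} {f : X ⟶ S} {n q : ℕ} (hBC : BCBelow f n q)
  {S' X' T Y K Z : Scheme.{u}} {p : S' ⟶ S} {f' : X' ⟶ S'} {r : X' ⟶ X} (hX : IsPullback r f' f p)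
  (g : T ⟶ S') (h : Y ⟶ X') (e : Y ⟶ T) (c : IsPullback e h g f') [QuasiCompact g] [QuasiSeparated g]
  (j : K ⟶ T) [QuasiCompact j] [QuasiSeparated j] (j' : Z ⟶ Y) (e' : Z ⟶ K) (c' : IsPullback e' j' j e)
  [PreservesFiniteLimits (EtCoh.pull e)] [PreservesFiniteLimits (EtCoh.pull e')]

include hBC hX c' in
/-- Base change fails for the composite with `j` as soon as it fails for a direct image along `j`. -/
theorem exists_comp_failure (hq : 1 ≤ q) (N : EtCoh.Ab K) (hN : EtCoh.KilledBy n N)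
    (hfail : ¬ Epi (EtBC.bcQ g f' h e c.w q ((EtCoh.push j).obj N))) :
    ∃ M : EtCoh.Ab K, EtCoh.KilledBy n M ∧
      ∀ w'' : e' ≫ j ≫ g = (j' ≫ h) ≫ f', ¬ IsIso (EtBC.bcQ (j ≫ g) f' (j' ≫ h) e' w'' q M) := by
  haveI := EtFound.pull_preservesFiniteLimits f'
  haveI := EtFound.pull_preservesFiniteLimits j'
  obtain ⟨M, ι, _, hM, hac⟩ := exists_hull_all N hN
  obtain ⟨q, rfl⟩ : ∃ i, q = i + 1 := ⟨q - 1, by omega⟩
  refine ⟨M, hM, fun w'' hiso => hfail ?_⟩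
  have hB : ∀ G₁ : EtCoh.Ab T, EtCoh.KilledBy n G₁ → IsIso (EtBC.bcQ g f' h e c.w (q + 1 - 1) G₁) :=
    fun G₁ hG₁ => hBC p f' r hX g h e c G₁ hG₁ _ le_rfl
  have hlow : ∀ a, a ≤ q → IsIso (EtBC.bcQ j e j' e' c'.w a M) := fun a ha =>
    hBC (g ≫ p) e (h ≫ r) (c.flip.paste_horiz hX) j j' e' c' M hM a ha
  have hvan : ∀ a, a < q → IsZero (((EtCoh.push j').rightDerived (a + 1)).obj ((EtCoh.pull e').obj M)) := fun a ha => by
    haveI := hlow (a + 1) ha
    exact ((EtCoh.pull e).map_isZero (hac j a)).of_iso (asIso (EtBC.bcQ j e j' e' c'.w (a + 1) M)).symm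
  have htop : IsZero (((EtCoh.push j' ⋙ EtCoh.push h).rightDerived (q + 1)).obj ((EtCoh.pull e').obj M)) := by
    haveI := hiso
    exact (((EtCoh.pull f').map_isZero (hac (j ≫ g) q)).of_iso
      (asIso (EtBC.bcQ (j ≫ g) f' (j' ≫ h) e' w'' (q + 1) M)).symm).of_iso
        ((RDer.rightDerivedIso (EtCoh.pushComp h j') (q + 1)).app _)
  have hz := isZero_rightDerived_of_comp (EtCoh.push j') (EtCoh.push h) _ q hvan htop
  haveI := hlow 0 q.zero_le
  let i₀ : (EtCoh.pull e).obj ((EtCoh.push j).obj M) ≅ (EtCoh.push j').obj ((EtCoh.pull e').obj M) :=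
    (EtCoh.pull e).mapIso ((EtCoh.push j).rightDerivedZeroIsoSelf.app M).symm ≪≫
      asIso (EtBC.bcQ j e j' e' c'.w 0 M) ≪≫ (EtCoh.push j').rightDerivedZeroIsoSelf.app _
  have hzM : IsZero ((EtCoh.Rpush h (q + 1)).obj ((EtCoh.pull e).obj ((EtCoh.push j).obj M))) :=
    hz.of_iso ((EtCoh.Rpush h (q + 1)).mapIso i₀)
  haveI : Epi (EtBC.bcQ g f' h e c.w (q + 1) ((EtCoh.push j).obj M)) := ⟨fun a b _ => hzM.eq_of_src a b⟩
  haveI := EtBCQ.mono_coker_of_below g f' h e c.w hq hB ((EtCoh.push j).map ι) (killedBy_map (EtCoh.push j) hM)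
  have hc : IsZero (cokernel (EtBC.bcQ g f' h e c.w (q + 1) ((EtCoh.push j).obj N))) :=
    IsZero.of_mono (cokernel.map _ (EtBC.bcQ g f' h e c.w (q + 1) ((EtCoh.push j).obj M)) _ _
      (EtBCQ.bcQ_naturality f' g h e c.w ((EtCoh.push j).map ι) (q + 1))) (isZero_cokernel_of_epi _)
  exact Preadditive.epi_of_isZero_cokernel _ hc

end Jump

/-- A failure of base change in degree `q` gives one for a field over an affine base. -/
theorem exists_field_failure {X S : Scheme.{u}} (f : X ⟶ S) (n q : ℕ) (hq : 1 ≤ q) (hBC : BCBelow f n q)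
    {S₂ X₂ T₂ Y₂ : Scheme.{u}} (p₂ : S₂ ⟶ S) (f₂ : X₂ ⟶ S₂) (r₂ : X₂ ⟶ X) (hX₂ : IsPullback r₂ f₂ f p₂)
    (g₂ : T₂ ⟶ S₂) (h₂ : Y₂ ⟶ X₂) (e₂ : Y₂ ⟶ T₂) (c₂ : IsPullback e₂ h₂ g₂ f₂) [QuasiCompact g₂] [QuasiSeparated g₂]
    [PreservesFiniteLimits (EtCoh.pull e₂)] (G₂ : EtCoh.Ab T₂) (hG₂ : EtCoh.KilledBy n G₂)
    (hfail : ¬ IsIso (EtBC.bcQ g₂ f₂ h₂ e₂ c₂.w q G₂)) :
    ∃ (S' X' Y : Scheme.{u}) (_ : IsAffine S') (p : S' ⟶ S) (f' : X' ⟶ S') (r : X' ⟶ X)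
      (_ : IsPullback r f' f p) (K : Type u) (_ : Field K) (g : Spec (CommRingCat.of K) ⟶ S') (h : Y ⟶ X')
      (e : Y ⟶ Spec (CommRingCat.of K)) (c : IsPullback e h g f')
      (F : EtCoh.Ab (Spec (CommRingCat.of K))) (_ : EtCoh.KilledBy n F),
      ∀ [PreservesFiniteLimits (EtCoh.pull e)], ¬ IsIso (EtBC.bcQ g f' h e c.w q F) := by
  classical
  let Us : S₂.affineOpens → X₂.Etale := fun U => Scheme.Etale.mk (f₂ ⁻¹ᵁ (U : S₂.Opens)).ι
  let Vs : S₂.affineOpens → S₂.Etale := fun U => Scheme.Etale.mk (U : S₂.Opens).ι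
  have hU : EtCoh.Covers Us := fun x => by
    obtain ⟨A, hA, hxA, -⟩ := exists_isAffineOpen_mem_and_subset (U := (⊤ : S₂.Opens)) (x := f₂.base x) trivial
    exact ⟨⟨A, hA⟩, (⟨x, hxA⟩ : (f₂ ⁻¹ᵁ A : Scheme.{u})), rfl⟩
  haveI : ∀ U : S₂.affineOpens, PreservesFiniteLimits (EtCoh.pull (pullback.fst (g₂ ∣_ (U : S₂.Opens)) (f₂ ∣_ (U : S₂.Opens)))) :=
    fun U => EtFound.pull_preservesFiniteLimits _
  by_contra H
  refine hfail (EtBCQ.isIso_bcQ_of_pieces f₂ g₂ h₂ e₂ c₂ q G₂ Us hU Vs (fun U => f₂ ∣_ (U : S₂.Opens))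
    (fun U => morphismRestrict_ι f₂ _) (fun U => (g₂ ⁻¹ᵁ (U : S₂.Opens) : Scheme.{u})) _
    (fun U => g₂ ∣_ (U : S₂.Opens)) (fun U => (g₂ ⁻¹ᵁ (U : S₂.Opens)).ι)
    (fun U => (isPullback_morphismRestrict g₂ (U : S₂.Opens)).flip) (fun U => pullback.snd _ _) (fun U => pullback.fst _ _)
    (fun U => IsPullback.of_hasPullback _ _) fun U => ?_)
  haveI : IsAffine (U : S₂.Opens) := U.2
  let gU := g₂ ∣_ (U : S₂.Opens)
  let fU := f₂ ∣_ (U : S₂.Opens)
  haveI : QuasiCompact gU := MorphismProperty.of_isPullback (isPullback_morphismRestrict g₂ (U : S₂.Opens)).flip ‹QuasiCompact g₂›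
  haveI : QuasiSeparated gU := MorphismProperty.of_isPullback (isPullback_morphismRestrict g₂ (U : S₂.Opens)).flip ‹QuasiSeparated g₂›
  haveI : CompactSpace (g₂ ⁻¹ᵁ (U : S₂.Opens) : Scheme.{u}) := QuasiCompact.compactSpace_of_compactSpace gU
  haveI : QuasiSeparatedSpace (g₂ ⁻¹ᵁ (U : S₂.Opens) : Scheme.{u}) := quasiSeparatedSpace_of_quasiSeparated gU
  have hXU : IsPullback ((f₂ ⁻¹ᵁ (U : S₂.Opens)).ι ≫ r₂) fU f ((U : S₂.Opens).ι ≫ p₂) :=
    (isPullback_morphismRestrict f₂ (U : S₂.Opens)).flip.paste_horiz hX₂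
  have cU := IsPullback.of_hasPullback gU fU
  by_contra hUfail
  obtain ⟨t, ht⟩ := exists_point_failure hBC hXU gU (pullback.snd gU fU) (pullback.fst gU fU) cU hq
    ((EtCoh.pull (g₂ ⁻¹ᵁ (U : S₂.Opens)).ι).obj G₂) (killedBy_map _ hG₂) hUfail
  let jt := ptIncl t
  haveI : QuasiCompact jt := quasiCompact_of_compactSpace jt
  haveI : QuasiSeparated jt := inferInstance
  haveI := EtFound.pull_preservesFiniteLimits (pullback.fst jt (pullback.fst gU fU))
  obtain ⟨M, hM, hMfail⟩ := exists_comp_failure hBC hXU gU (pullback.snd gU fU) (pullback.fst gU fU) cU jt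
    (pullback.snd jt (pullback.fst gU fU)) (pullback.fst jt (pullback.fst gU fU)) (IsPullback.of_hasPullback _ _) hq
    ((EtCoh.pull jt).obj ((EtCoh.pull (g₂ ⁻¹ᵁ (U : S₂.Opens)).ι).obj G₂))
    (killedBy_map _ (killedBy_map _ hG₂)) ht
  have cM := (IsPullback.of_hasPullback jt (pullback.fst gU fU)).paste_vert cU
  exact H ⟨_, _, _, U.2, _, _, _, hXU, ((g₂ ⁻¹ᵁ (U : S₂.Opens)) : Scheme.{u}).residueField t, inferInstance,
    jt ≫ gU, _, _, cM, M, hM, fun {_} => hMfail cM.w⟩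

end Groth.Agent.EtBCFib
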