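import Groth.Agent.EtBCFib.Cyclic
import Groth.Agent.EtBCFib.Field
import Groth.Agent.EtFound.SepClosedField
import Groth.Prelude.Def_EtCore

/-!
# Nonvanishing over an algebraically closed field is seen on a constant sheaf
-/

set_option autoImplicit false
set_option linter.style.haveILetI false
set_option maxHeartbeats 1000000

universe u

open CategoryTheory CategoryTheory.Limits AlgebraicGeometry Opposite

namespace Groth.Agent.EtBCFib

set_option backward.isDefEq.respectTransparency false
set_option backward.isDefEq.respectTransparency.types false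

/-- A sheaf on a separably closed point is constant. -/
theorem nonempty_iso_const {K : Type u} [Field K] [IsSepClosed K] (M : EtCoh.Ab (Spec (CommRingCat.of K))) :
    Nonempty ((constantSheaf (Spec (CommRingCat.of K)).smallEtaleTopology AddCommGrpCat.{u + 1}).obj
      ((EtCore.gsec (Spec (CommRingCat.of K))).obj M) ≅ M) := by
  haveI := EtFound.sectTop_isEquivalence (k := K) (A := AddCommGrpCat.{u + 1})
  haveI : (EtCore.gsec (Spec (CommRingCat.of K))).Full := inferInstance
  haveI : (EtCore.gsec (Spec (CommRingCat.of K))).Faithful := inferInstance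
  haveI : IsIso (EtCore.constAdj (Spec (CommRingCat.of K))).counit :=
    Adjunction.counit_isIso_of_R_fully_faithful _
  exact ⟨asIso ((EtCore.constAdj (Spec (CommRingCat.of K))).counit.app M)⟩

/-- If the higher direct image of the inverse image of a torsion sheaf on a separably closed point is nonzero,
then so is that of a constant sheaf `ℤ/d`, `d` dividing `n`. -/
theorem exists_const_nonzero {K : Type u} [Field K] [IsSepClosed K] {X Y : Scheme.{u}} (h : Y ⟶ X)
    [QuasiCompact h] [QuasiSeparated h] (e : Y ⟶ Spec (CommRingCat.of K)) {n : ℕ} (hn : 0 < n) (q : ℕ)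
    (M : EtCoh.Ab (Spec (CommRingCat.of K))) (hM : EtCoh.KilledBy n M)
    (hne : ¬ IsZero ((EtCoh.Rpush h q).obj ((EtCoh.pull e).obj M))) :
    ∃ d : ℕ, d ∣ n ∧ ¬ IsZero ((EtCoh.Rpush h q).obj (EtCoh.const Y (ZMod d))) := by
  let c := constantSheaf Y.smallEtaleTopology AddCommGrpCat.{u + 1}
  haveI : PreservesFiniteLimits c := comp_preservesFiniteLimits _ _
  haveI : PreservesColimitsOfSize.{u + 1, u + 1} c := (EtCore.constAdj Y).leftAdjoint_preservesColimits
  haveI : PreservesFiniteColimits c := PreservesColimitsOfSize.preservesFiniteColimits _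
  haveI : c.Additive := (EtCore.constAdj Y).left_adjoint_additive
  let L : AddCommGrpCat.{u + 1} ⥤ EtCoh.Ab X := c ⋙ EtCoh.Rpush h q
  by_contra! H
  refine hne ?_
  obtain ⟨eM⟩ := nonempty_iso_const M
  have hG : n • 𝟙 ((EtCore.gsec (Spec (CommRingCat.of K))).obj M) = 0 := by
    haveI : (EtCore.gsec (Spec (CommRingCat.of K))).Additive := (EtCore.constAdj _).right_adjoint_additive
    simpa only [Functor.map_nsmul, CategoryTheory.Functor.map_id, Functor.map_zero] using
      congrArg (EtCore.gsec (Spec (CommRingCat.of K))).map ((EtFound.killedBy_iff_nsmul n M).1 hM)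
  have hz : IsZero (L.obj ((EtCore.gsec (Spec (CommRingCat.of K))).obj M)) :=
    isZero_obj_of_primes L
      (fun B => by
        haveI := EtTorLib.preservesColimitsOfShape_Rpush h q (Finset (Discrete B))
        exact inferInstanceAs (PreservesColimitsOfShape _ (c ⋙ EtCoh.Rpush h q)))
      (fun S hS => (SESResLib.derivedLES (EtCoh.push h)).exact₂ _ (hS.map_of_exact c) q)
      n hn (fun p _ hp => H p hp) _ hG
  exact hz.of_iso ((EtCoh.Rpush h q).mapIso ((EtCoh.pull e).mapIso eM.symm ≪≫
    (EtCore.pullConstIso e).app ((EtCore.gsec (Spec (CommRingCat.of K))).obj M)))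

end Groth.Agent.EtBCFib
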