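import Groth.Agent.SiteBase.Horseshoe
import Mathlib.CategoryTheory.Limits.Constructions.Filtered
import Mathlib.Algebra.Category.Grp.Abelian
import Mathlib.Algebra.Category.Grp.Colimits
import Mathlib.LinearAlgebra.Basis.VectorSpace
import Mathlib.Algebra.Module.ZMod
import Mathlib.Algebra.Field.ZMod
import Mathlib.CategoryTheory.Preadditive.AdditiveFunctor
import Mathlib.Algebra.Category.Grp.EpiMono

/-!
# Functors on abelian groups killed by `n` are detected on the groups `ℤ/p`
-/

set_option autoImplicit false
set_option linter.style.haveILetI false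

universe v₂ u₂ u

open CategoryTheory CategoryTheory.Limits

namespace Groth.Agent.EtBCFib

variable {C : Type u₂} [Category.{v₂} C] [Abelian C] (L : AddCommGrpCat.{u + 1} ⥤ C) [L.Additive]

/-- the cofan of a basis -/
theorem isZero_obj_of_basis (p : ℕ) [Fact p.Prime] (hL : ∀ B : Type (u + 1), PreservesColimitsOfShape (Finset (Discrete B)) L)
    (G : AddCommGrpCat.{u + 1}) [Module (ZMod p) G] (hp : IsZero (L.obj (AddCommGrpCat.of (ULift.{u + 1} (ZMod p))))) :
    IsZero (L.obj G) := by
  classical
  let b := Module.Basis.ofVectorSpace (ZMod p) G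
  let B : Type (u + 1) := Module.Basis.ofVectorSpaceIndex (ZMod p) G
  haveI := hL B
  let Z : AddCommGrpCat.{u + 1} := AddCommGrpCat.of (ULift.{u + 1} (ZMod p))
  let ι : B → (Z ⟶ G) := fun i => AddCommGrpCat.ofHom
    { toFun := fun z => z.down • b i
      map_zero' := zero_smul (ZMod p) (b i)
      map_add' := fun z z' => add_smul z.down z'.down (b i) }
  let desc : ∀ s : Cofan (fun _ : B => Z), G ⟶ s.pt := fun s => AddCommGrpCat.ofHom
    ((Finsupp.liftAddHom fun i => ((s.inj i).hom.comp AddEquiv.ulift.symm.toAddMonoidHom : ZMod p →+ s.pt)).comp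
      b.repr.toAddEquiv.toAddMonoidHom)
  have hc : IsColimit (Cofan.mk G ι) := by
    refine mkCofanColimit _ desc (fun s i => AddCommGrpCat.ext fun z => ?_) fun s m hm => AddCommGrpCat.ext fun x => ?_
    · show Finsupp.liftAddHom (fun i => ((s.inj i).hom.comp AddEquiv.ulift.symm.toAddMonoidHom : ZMod p →+ s.pt))
        (b.repr (z.down • b i)) = s.inj i z
      rw [map_smul, Module.Basis.repr_self, Finsupp.smul_single, smul_eq_mul, mul_one, Finsupp.liftAddHom_apply_single]
      rfl
    · have e : (m.hom : G →+ s.pt).comp b.repr.symm.toAddEquiv.toAddMonoidHom =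
          Finsupp.liftAddHom fun i => ((s.inj i).hom.comp AddEquiv.ulift.symm.toAddMonoidHom : ZMod p →+ s.pt) := by
        refine Finsupp.addHom_ext fun i z => ?_
        rw [Finsupp.liftAddHom_apply_single, AddMonoidHom.comp_apply]
        show m (b.repr.symm (Finsupp.single i z)) = s.inj i (ULift.up z)
        rw [Module.Basis.repr_symm_single, ← hm i]
        rfl
      have := DFunLike.congr_fun e (b.repr x)
      rw [AddMonoidHom.comp_apply] at this
      refine (Eq.trans ?_ this)
      show m x = m (b.repr.symm (b.repr x))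
      rw [LinearEquiv.symm_apply_apply]
  let F : Discrete B ⥤ AddCommGrpCat.{u + 1} := Discrete.functor fun _ : B => Z
  let D := CoproductsFromFiniteFiltered.liftToFinsetObj F
  have hS : ∀ S : Finset (Discrete B), IsZero (L.obj (D.obj S)) := fun S => by
    rw [IsZero.iff_id_eq_zero]
    refine (isColimitOfPreserves L (colimit.isColimit (Discrete.functor fun x : S => F.obj x))).hom_ext fun x => ?_
    exact hp.eq_of_src _ _
  have hD : IsZero (L.obj (colimit D)) := by
    rw [IsZero.iff_id_eq_zero]
    exact (isColimitOfPreserves L (colimit.isColimit D)).hom_ext fun S => (hS S).eq_of_src _ _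
  exact hD.of_iso (L.mapIso (hc.coconePointUniqueUpToIso (CoproductsFromFiniteFiltered.liftToFinsetColimitCocone F).isColimit))

/-- A middle exact functor commuting with filtered colimits vanishes on groups killed by `n` as soon as it
vanishes on `ℤ/p` for the primes `p` dividing `n`. -/
theorem isZero_obj_of_primes (hL : ∀ B : Type (u + 1), PreservesColimitsOfShape (Finset (Discrete B)) L)
    (hex : ∀ S : ShortComplex AddCommGrpCat.{u + 1}, S.ShortExact → (S.map L).Exact) :
    ∀ n : ℕ, 0 < n → (∀ p : ℕ, p.Prime → p ∣ n → IsZero (L.obj (AddCommGrpCat.of (ULift.{u + 1} (ZMod p))))) →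
      ∀ G : AddCommGrpCat.{u + 1}, n • 𝟙 G = 0 → IsZero (L.obj G) := by
  intro n
  induction n using Nat.strongRecOn with
  | ind n ih =>
    intro hn hp G hG
    by_cases h1 : n = 1
    · subst h1
      rw [one_nsmul] at hG
      exact L.map_isZero ((IsZero.iff_id_eq_zero G).2 hG)
    let p := n.minFac
    have hpp : p.Prime := n.minFac_prime h1
    obtain ⟨m, hm⟩ := n.minFac_dvd
    have hm0 : 0 < m := by
      rcases Nat.eq_zero_or_pos m with rfl | h
      · simp at hm; omega
      · exact h
    have hmn : m < n := by rw [hm]; exact lt_mul_left hm0 hpp.one_lt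
    let φ : G ⟶ G := p • 𝟙 G
    let S := ShortComplex.mk (kernel.ι φ) (Abelian.coimage.π φ) (cokernel.condition _)
    have hS : S.ShortExact := { exact := ShortComplex.exact_of_g_is_cokernel _ (cokernelIsCokernel _) }
    have h₁ : IsZero (L.obj (kernel φ)) := by
      haveI : Fact p.Prime := ⟨hpp⟩
      refine @isZero_obj_of_basis _ _ _ L _ p _ hL _ (AddCommGroup.zmodModule fun x => ?_) (hp p hpp n.minFac_dvd)
      have e : p • 𝟙 (kernel φ) = 0 := by
        rw [← cancel_mono (kernel.ι φ), zero_comp, Preadditive.nsmul_comp, Category.id_comp]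
        have := kernel.condition φ
        rwa [show φ = p • 𝟙 G from rfl, Preadditive.comp_nsmul, Category.comp_id] at this
      simpa using ConcreteCategory.congr_hom e x
    have h₃ : IsZero (L.obj (Abelian.coimage φ)) := by
      refine ih m hmn hm0 (fun p' hp' hd => hp p' hp' (hd.trans ⟨p, by rw [hm]; ring⟩)) _ ?_
      rw [← cancel_epi (Abelian.coimage.π φ), ← cancel_mono (Abelian.factorThruCoimage φ), comp_zero, zero_comp,
        Preadditive.comp_nsmul, Category.comp_id, Preadditive.nsmul_comp, Abelian.coimage.fac]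
      show m • (p • 𝟙 G) = 0
      rw [← mul_nsmul, show p * m = n from hm.symm, hG]
    exact (hex S hS).isZero_of_both_zeros (h₁.eq_of_src _ _) (h₃.eq_of_tgt _ _)

end Groth.Agent.EtBCFib
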