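import Groth.Agent.EtBCFib.Vanish
import Groth.Agent.EtTorLib.Sections
import Mathlib.CategoryTheory.Abelian.Images

/-!
# A class that does not come from below is already seen at one point
-/

set_option autoImplicit false
set_option linter.style.haveILetI false
set_option maxHeartbeats 800000

universe u

open CategoryTheory CategoryTheory.Limits AlgebraicGeometry Opposite Topology

namespace Groth.Agent.EtBCFib

set_option backward.isDefEq.respectTransparency.types false

variable {T : Scheme.{u}} (F : EtCoh.Ab T)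

/-- the part of a sheaf at a point, pushed forward -/
noncomputable abbrev ptPush (t : T) : EtCoh.Ab T :=
  (EtCoh.push (ptIncl t)).obj ((EtCoh.pull (ptIncl t)).obj F)

/-- restriction to a point -/
noncomputable abbrev ptUnit (t : T) : F ⟶ ptPush F t := (EtCoh.pullPushAdj (ptIncl t)).unit.app F

/-- the product over a set of points -/
noncomputable abbrev P (A : Set T) : EtCoh.Ab T := ∏ᶜ fun t : A => ptPush F t.1

/-- restriction to a set of points -/
noncomputable abbrev πP (A : Set T) : F ⟶ P F A := Pi.lift fun t : A => ptUnit F t.1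

/-- forgetting points -/
noncomputable abbrev res {A B : Set T} (h : B ⊆ A) : P F A ⟶ P F B :=
  Pi.lift fun t : B => Pi.π (fun t : A => ptPush F t.1) ⟨t.1, h t.2⟩

theorem πP_res {A B : Set T} (h : B ⊆ A) : πP F A ≫ res F h = πP F B := by
  apply Pi.hom_ext
  intro t
  simp

theorem nsmul_P {n : ℕ} (hn : n • 𝟙 F = 0) (A : Set T) : n • 𝟙 (P F A) = 0 := by
  have hpt : ∀ t, n • 𝟙 (ptPush F t) = 0 := fun t => by
    haveI := EtFound.pull_preservesFiniteLimits (ptIncl t)
    have h0 := congrArg (fun a => (EtCoh.push (ptIncl t)).map ((EtCoh.pull (ptIncl t)).map a)) hn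
    simpa only [Functor.map_nsmul, CategoryTheory.Functor.map_id, Functor.map_zero] using h0
  apply Pi.hom_ext
  intro t
  rw [Preadditive.nsmul_comp, Category.id_comp, zero_comp]
  have := congrArg (Pi.π (fun t : A => ptPush F t.1) t ≫ ·) (hpt t.1)
  simpa [Preadditive.comp_nsmul] using this

theorem sec_ext {A : Set T} {V : T.Etale} (y : (P F A).obj.obj (op V))
    (h : ∀ t : A, (Pi.π (fun t : A => ptPush F t.1) t).hom.app (op V) y = 0) : y = 0 := by
  let Γ := sheafToPresheaf T.smallEtaleTopology AddCommGrpCat.{u + 1} ⋙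
    (evaluation T.Etaleᵒᵖ AddCommGrpCat.{u + 1}).obj (op V)
  refine Concrete.isLimit_ext _ (isLimitOfPreserves Γ (productIsProduct fun t : A => ptPush F t.1)) y 0 fun t => ?_
  exact (h t.as).trans (map_zero (Γ.map (Pi.π (fun t : A => ptPush F t.1) t.as)).hom).symm

theorem πP_app_eq_zero {A : Set T} {V : T.Etale} (s : F.obj.obj (op V)) (hs : V.hom.base ⁻¹' A ⊆ killSet F s) :
    (πP F A).hom.app (op V) s = 0 := by
  refine sec_ext F _ fun t => ?_
  have e : (Pi.π (fun t : A => ptPush F t.1) t).hom.app (op V) ((πP F A).hom.app (op V) s) =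
      EtContLib.unitSec (ptIncl t.1) F V s :=
    ConcreteCategory.congr_hom (congrArg (fun m : F ⟶ ptPush F t.1 => m.hom.app (op V))
      (limit.lift_π _ (Discrete.mk t) : πP F A ≫ Pi.π _ t = ptUnit F t.1)) s
  rw [e]
  refine EtTorLib.eq_zero_of_locally _ fun z => ?_
  have hv : V.hom.base (pullback.fst V.hom (ptIncl t.1) z) = t.1 := by
    have h1 := congrArg (fun p : ((EtCoh.bc (ptIncl t.1)).obj V).left ⟶ T => p.base z)
      (pullback.condition (f := V.hom) (g := ptIncl t.1))
    exact ((Scheme.Hom.comp_apply _ _ _).symm.trans h1).trans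
      ((Scheme.Hom.comp_apply _ _ _).trans (Scheme.fromSpecResidueField_apply t.1 _))
  obtain ⟨W, g, w, hw, hg⟩ := hs (show pullback.fst V.hom (ptIncl t.1) z ∈ V.hom.base ⁻¹' A by
    rw [Set.mem_preimage, hv]; exact t.2)
  obtain ⟨z', hz'⟩ := EtContLib.exists_bc_preimage (ptIncl t.1) g z w hw
  refine ⟨(EtCoh.bc (ptIncl t.1)).obj W, (EtCoh.bc (ptIncl t.1)).map g, z', ?_, hz'⟩
  refine ((NatTrans.naturality_apply (ptUnit F t.1).hom g.op s).symm.trans ?_)
  exact (congrArg ((ptUnit F t.1).hom.app (op W)) hg).trans (map_zero ((ptUnit F t.1).hom.app (op W)).hom)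

variable [QuasiSeparatedSpace T]

theorem mono_πP_univ : Mono (πP F (Set.univ : Set T)) := by
  refine EtTorLib.mono_of_affine _ fun V _ s hs => EtTorLib.eq_zero_of_locally s fun v => ?_
  let t : T := V.hom.base v
  have h0 : EtContLib.unitSec (ptIncl t) F V s = 0 := by
    refine (ConcreteCategory.congr_hom (congrArg (fun m : F ⟶ ptPush F t => m.hom.app (op V))
      (limit.lift_π _ (Discrete.mk (⟨t, Set.mem_univ t⟩ : (Set.univ : Set T))) :
        πP F Set.univ ≫ Pi.π _ ⟨t, Set.mem_univ t⟩ = ptUnit F t)) s).symm.trans ?_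
    exact (congrArg _ hs).trans (map_zero ((Pi.π (fun t : (Set.univ : Set T) => ptPush F t.1) _).hom.app (op V)).hom)
  obtain ⟨W, g, w, hw, hg⟩ := mem_killSet_of_unit F s t h0 v rfl
  exact ⟨W, g, w, hg, hw⟩

omit [QuasiSeparatedSpace T] in
theorem mono_lift_union (A B : Set T) :
    Mono (biprod.lift (res F (Set.subset_union_left : A ⊆ A ∪ B)) (res F (Set.subset_union_right : B ⊆ A ∪ B))) := by
  refine ⟨fun {Z} a b hab => ?_⟩
  have ha := congrArg (· ≫ biprod.fst) hab
  have hb := congrArg (· ≫ biprod.snd) hab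
  simp only [Category.assoc, biprod.lift_fst, biprod.lift_snd] at ha hb
  apply Pi.hom_ext
  intro t
  rcases t.2 with ht | ht
  · have := congrArg (· ≫ Pi.π (fun t : A => ptPush F t.1) ⟨t.1, ht⟩) ha
    simpa using this
  · have := congrArg (· ≫ Pi.π (fun t : B => ptPush F t.1) ⟨t.1, ht⟩) hb
    simpa using this

section Main

variable [CompactSpace T] {n : ℕ} (Src Tgt : EtCoh.Ab T ⥤ AddCommGrpCat.{u + 1}) [Src.Additive] [Tgt.Additive]
  (β : Src ⟶ Tgt)
  (hmono : ∀ (A B : EtCoh.Ab T) (i : A ⟶ B), Mono i → n • 𝟙 B = 0 → ∀ x : Tgt.obj A,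
    Tgt.map i x ∈ Set.range (β.app B) → x ∈ Set.range (β.app A))

/-- the class dies on a set of points -/
def Good (x : Tgt.obj F) (A : Set T) : Prop := Tgt.map (πP F A) x ∈ Set.range (β.app (P F A))

omit [QuasiSeparatedSpace T] [CompactSpace T] [Src.Additive] [Tgt.Additive] in
theorem range_map {A B : EtCoh.Ab T} (k : A ⟶ B) {y : Tgt.obj A} (hy : y ∈ Set.range (β.app A)) :
    Tgt.map k y ∈ Set.range (β.app B) := by
  obtain ⟨a, rfl⟩ := hy
  exact ⟨Src.map k a, NatTrans.naturality_apply β k a⟩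

omit [QuasiSeparatedSpace T] [CompactSpace T] in
theorem range_add {A : EtCoh.Ab T} {y z : Tgt.obj A} (hy : y ∈ Set.range (β.app A)) (hz : z ∈ Set.range (β.app A)) :
    y + z ∈ Set.range (β.app A) := by
  obtain ⟨a, rfl⟩ := hy
  obtain ⟨b, rfl⟩ := hz
  exact ⟨a + b, map_add _ _ _⟩

omit [QuasiSeparatedSpace T] [CompactSpace T] [Src.Additive] [Tgt.Additive] in
theorem good_anti (x : Tgt.obj F) {A B : Set T} (h : B ⊆ A) (hA : Good F Src Tgt β x A) : Good F Src Tgt β x B := by
  rw [Good, ← πP_res F h, Tgt.map_comp, ConcreteCategory.comp_apply]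
  exact range_map Src Tgt β _ hA

omit [QuasiSeparatedSpace T] [CompactSpace T] in
include hmono in
theorem good_union (hn : n • 𝟙 F = 0) (x : Tgt.obj F) {A B : Set T} (hA : Good F Src Tgt β x A)
    (hB : Good F Src Tgt β x B) : Good F Src Tgt β x (A ∪ B) := by
  refine hmono _ _ _ (mono_lift_union F A B) ?_ _ ?_
  · apply biprod.hom_ext
    · rw [Preadditive.nsmul_comp, Category.id_comp, zero_comp]
      simpa [Preadditive.comp_nsmul] using congrArg (biprod.fst ≫ ·) (nsmul_P F hn A)
    · rw [Preadditive.nsmul_comp, Category.id_comp, zero_comp]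
      simpa [Preadditive.comp_nsmul] using congrArg (biprod.snd ≫ ·) (nsmul_P F hn B)
  · rw [← ConcreteCategory.comp_apply, ← Tgt.map_comp]
    have e : πP F (A ∪ B) ≫ biprod.lift (res F Set.subset_union_left) (res F Set.subset_union_right) =
        πP F A ≫ biprod.inl + πP F B ≫ biprod.inr := by
      apply biprod.hom_ext <;> simp [πP_res]
    rw [e, Tgt.map_add, Tgt.map_comp, Tgt.map_comp]
    exact range_add Src Tgt β (range_map Src Tgt β _ hA) (range_map Src Tgt β _ hB)

omit [CompactSpace T] [QuasiSeparatedSpace T] in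
theorem good_empty (x : Tgt.obj F) : Good F Src Tgt β x ∅ := by
  have hz : IsZero (P F (∅ : Set T)) := IsZero.iff_id_eq_zero _ |>.2 (Pi.hom_ext _ _ fun t => t.2.elim)
  haveI : Subsingleton (Tgt.obj (P F (∅ : Set T))) := AddCommGrpCat.subsingleton_of_isZero (Tgt.map_isZero hz)
  exact ⟨0, Subsingleton.elim _ _⟩

/-- the diagram of neighbourhoods -/
noncomputable def nbhdDiag (t : T) : ULift.{u + 1} (Finset (PieceAt T t)) ⥤ EtCoh.Ab T where
  obj C := P F (nbhd T C.down)
  map {C C'} h := res F (nbhd_anti (leOfHom (X := ULift.{u + 1} (Finset (PieceAt T t))) h))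
  map_id C := by apply Pi.hom_ext; intro y; simp
  map_comp f g := by apply Pi.hom_ext; intro y; simp

include hmono in
theorem exists_good_nbhd (hn : n • 𝟙 F = 0) (t : T)
    [PreservesColimitsOfShape (ULift.{u + 1} (Finset (PieceAt T t))) Src]
    [PreservesColimitsOfShape (ULift.{u + 1} (Finset (PieceAt T t))) Tgt] (x : Tgt.obj F)
    (hx : Tgt.map (ptUnit F t) x ∈ Set.range (β.app (ptPush F t))) :
    ∃ C : Finset (PieceAt T t), Good F Src Tgt β x (nbhd T C) := by
  classical
  haveI : Nonempty (ULift.{u + 1} (Finset (PieceAt T t))) := ⟨⟨∅⟩⟩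
  haveI : IsDirected (ULift.{u + 1} (Finset (PieceAt T t))) (· ≤ ·) :=
    ⟨fun a b => ⟨⟨a.down ∪ b.down⟩, Finset.subset_union_left, Finset.subset_union_right⟩⟩
  haveI : IsFiltered (ULift.{u + 1} (Finset (PieceAt T t))) := isFiltered_of_directed_le_nonempty _
  let D := nbhdDiag F t
  let c := colimit.cocone D
  let C₀ : ULift.{u + 1} (Finset (PieceAt T t)) := ⟨∅⟩
  let w : F ⟶ c.pt := πP F (nbhd T C₀.down) ≫ c.ι.app C₀
  have hw : ∀ C, πP F (nbhd T C.down) ≫ c.ι.app C = w := fun C => by
    refine Eq.symm ((whisker_eq _ (c.w (homOfLE (show C₀ ≤ C from Finset.empty_subset _))).symm).trans ?_)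
    exact (Category.assoc _ _ _).symm.trans
      (eq_whisker (πP_res F (nbhd_anti (show C₀.down ⊆ C.down from Finset.empty_subset _))) _)
  let K := kernel.ι (ptUnit F t)
  have hK : K ≫ w = 0 := by
    refine Sheaf.hom_ext (NatTrans.ext (funext fun W => AddCommGrpCat.ext fun s => ?_))
    refine EtTorLib.eq_zero_of_locally _ fun v => ?_
    obtain ⟨V, g, hV, v', hv'⟩ := EtTorLib.exists_affine_nhd W.unop v
    refine ⟨V, g, v', ?_, hv'⟩
    refine (NatTrans.naturality_apply (K ≫ w).hom g.op s).symm.trans ?_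
    let s' := K.hom.app (op V) ((kernel (ptUnit F t)).obj.map g.op s)
    have h0 : EtContLib.unitSec (ptIncl t) F V s' = 0 :=
      ConcreteCategory.congr_hom (congrArg (fun m : kernel (ptUnit F t) ⟶ ptPush F t => m.hom.app (op V))
        (kernel.condition (ptUnit F t))) _
    obtain ⟨C, hC⟩ := exists_nbhd_killed F s' t h0
    show w.hom.app (op V) s' = 0
    rw [← hw ⟨C⟩]
    exact (congrArg ((c.ι.app ⟨C⟩).hom.app (op V)) (πP_app_eq_zero F s' hC)).trans (map_zero _)
  let q := Abelian.coimage.π (ptUnit F t)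
  let d := Abelian.factorThruCoimage (ptUnit F t)
  let w' : Abelian.coimage (ptUnit F t) ⟶ c.pt := cokernel.desc _ w hK
  have hq : Tgt.map q x ∈ Set.range (β.app _) := by
    refine hmono _ _ d inferInstance ?_ _ ?_
    · haveI := EtFound.pull_preservesFiniteLimits (ptIncl t)
      have h0 := congrArg (fun a => (EtCoh.push (ptIncl t)).map ((EtCoh.pull (ptIncl t)).map a)) hn
      simpa only [Functor.map_nsmul, CategoryTheory.Functor.map_id, Functor.map_zero] using h0
    · rwa [← ConcreteCategory.comp_apply, ← Tgt.map_comp, Abelian.coimage.fac]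
  have hwx : Tgt.map w x ∈ Set.range (β.app c.pt) := by
    rw [show w = q ≫ w' from (cokernel.π_desc _ _ _).symm, Tgt.map_comp, ConcreteCategory.comp_apply]
    exact range_map Src Tgt β _ hq
  obtain ⟨a, ha⟩ := hwx
  obtain ⟨C₁, a₁, rfl⟩ := Concrete.isColimit_exists_rep _ (isColimitOfPreserves Src (colimit.isColimit D)) a
  have e : (Tgt.mapCocone c).ι.app C₁ (β.app (D.obj C₁) a₁) = (Tgt.mapCocone c).ι.app C₀ (Tgt.map (πP F _) x) := by
    refine (NatTrans.naturality_apply β (c.ι.app C₁) a₁).symm.trans (ha.trans ?_)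
    rw [Tgt.map_comp, ConcreteCategory.comp_apply]
    rfl
  obtain ⟨C, f₁, f₀, hC⟩ := Concrete.isColimit_exists_of_rep_eq _ (isColimitOfPreserves Tgt (colimit.isColimit D)) _ _ e
  refine ⟨C.down, Src.map (D.map f₁) a₁, (NatTrans.naturality_apply β (D.map f₁) a₁).trans (hC.trans ?_)⟩
  show Tgt.map (D.map f₀) (Tgt.map (πP F _) x) = _
  refine (ConcreteCategory.comp_apply (Tgt.map (πP F (nbhd T C₀.down))) (Tgt.map (D.map f₀)) x).symm.trans ?_
  refine ConcreteCategory.congr_hom ((Tgt.map_comp _ _).symm.trans (congrArg Tgt.map ?_)) x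
  exact πP_res F (nbhd_anti (leOfHom (X := ULift.{u + 1} (Finset (PieceAt T t))) f₀))

include hmono in
/-- A class outside the image stays outside it at some point. -/
theorem exists_point_detect (hn : n • 𝟙 F = 0)
    (hSrc : ∀ t : T, PreservesColimitsOfShape (ULift.{u + 1} (Finset (PieceAt T t))) Src)
    (hTgt : ∀ t : T, PreservesColimitsOfShape (ULift.{u + 1} (Finset (PieceAt T t))) Tgt)
    (x : Tgt.obj F) (hx : x ∉ Set.range (β.app F)) :
    ∃ t : T, Tgt.map (ptUnit F t) x ∉ Set.range (β.app (ptPush F t)) := by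
  classical
  by_contra! H
  choose C hC using fun t => haveI := hSrc t; haveI := hTgt t; exists_good_nbhd F Src Tgt β hmono hn t x (H t)
  obtain ⟨I, hI⟩ := @IsCompact.elim_finite_subcover T (constructibleTopology T) _ _
    (@isCompact_univ T (constructibleTopology T) compactSpace_constructible) (fun t => nbhd T (C t))
    (fun t => isOpen_nbhd (C t)) (fun t _ => Set.mem_iUnion.2 ⟨t, mem_nbhd (C t)⟩)
  have hU : ∀ J : Finset T, Good F Src Tgt β x (⋃ t ∈ J, nbhd T (C t)) := fun J => by
    induction J using Finset.induction_on with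
    | empty => simpa using good_empty F Src Tgt β x
    | insert t J _ ih => rw [Finset.set_biUnion_insert]; exact good_union F Src Tgt β hmono hn x (hC t) ih
  exact hx (hmono _ _ _ (mono_πP_univ F) (nsmul_P F hn _) x (good_anti F Src Tgt β x hI (hU I)))

end Main

end Groth.Agent.EtBCFib
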