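import Groth.Agent.EtBCQ.Hcomp

/-!
# Base change after an integral change of the base
-/

set_option autoImplicit false
set_option linter.style.haveILetI false
set_option maxHeartbeats 1000000

universe u

open CategoryTheory CategoryTheory.Limits AlgebraicGeometry HomologicalComplex Opposite

namespace Groth.Agent.EtBCFib

open EtBCQ

set_option backward.isDefEq.respectTransparency false
set_option backward.isDefEq.respectTransparency.types false

section Base

variable {X' S' X'' S'' T Y : Scheme.{u}} (f' : X' ⟶ S') (π : S'' ⟶ S') [IsIntegralHom π] (f'' : X'' ⟶ S'')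
  (π' : X'' ⟶ X') (hX : IsPullback π' f'' f' π) (g' : T ⟶ S'') (h' : Y ⟶ X'') (e : Y ⟶ T) (w : e ≫ g' = h' ≫ f'')
  (w'' : e ≫ g' ≫ π = (h' ≫ π') ≫ f') [PreservesFiniteLimits (EtCoh.pull e)]

include hX in
/-- Base change after an integral change of the base, from base change before it. -/
theorem isIso_bcQ_comp_integral_base (F : EtCoh.Ab T) (q : ℕ)
    (hiso : IsIso (EtBC.bcQ g' f'' h' e w q F)) : IsIso (EtBC.bcQ (g' ≫ π) f' (h' ≫ π') e w'' q F) := by
  haveI := EtFound.pull_preservesFiniteLimits f'
  haveI := EtFound.pull_preservesFiniteLimits f''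
  haveI : IsIntegralHom π' := MorphismProperty.of_isPullback hX.flip ‹IsIntegralHom π›
  haveI := EtFound.push_preservesFiniteColimits π'
  haveI := EtFound.push_preservesFiniteLimits π'
  have hc : ∀ G : EtCoh.Ab X'', Epi ((EtCoh.pullPushAdj π').counit.app G) := fun G =>
    (Sheaf.isLocallySurjective_iff_epi' _ _).1
      (EtFound.isLocallySurjective_counit_of_propA π' (EtFound.propA_integral π') G)
  haveI : (EtCoh.push π').Faithful := (EtCoh.pullPushAdj π').faithful_R_of_epi_counit_app
  let I := injectiveResolution F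
  let J := injectiveResolution ((EtCoh.pull e).obj F)
  obtain ⟨ψ, hψ⟩ := exists_psi e I J
  have h₁ := (isIso_bcQ_iff g' f'' h' e w I J ψ hψ q).1 hiso
  refine (isIso_bcQ_iff (g' ≫ π) f' (h' ≫ π') e w'' I J ψ hψ q).2 ?_
  let α := ((EtCoh.pull f').mapHomologicalComplex (ComplexShape.up ℕ)).map
    ((NatTrans.mapHomologicalComplex (EtCoh.pushComp π g').hom (ComplexShape.up ℕ)).app I.cocomplex)
  let γ := (NatTrans.mapHomologicalComplex (bc0Nat π f' π' f'' hX.flip.w) (ComplexShape.up ℕ)).app
    (((EtCoh.push g').mapHomologicalComplex (ComplexShape.up ℕ)).obj I.cocomplex)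
  let θ := ((EtCoh.push π').mapHomologicalComplex (ComplexShape.up ℕ)).map (theta g' f'' h' e w I J ψ)
  let β := (NatTrans.mapHomologicalComplex (EtCoh.pushComp π' h').hom (ComplexShape.up ℕ)).app J.cocomplex
  have key : α ≫ theta (g' ≫ π) f' (h' ≫ π') e w'' I J ψ = γ ≫ θ ≫ β := by
    refine HomologicalComplex.hom_ext _ _ fun m => ?_
    show (EtCoh.pull f').map ((EtCoh.pushComp π g').hom.app (I.cocomplex.X m)) ≫
        EtCoh.baseChange0 (g' ≫ π) f' (h' ≫ π') e w'' (I.cocomplex.X m) ≫ (EtCoh.push (h' ≫ π')).map (ψ.f m) =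
      EtCoh.baseChange0 π f' π' f'' hX.flip.w ((EtCoh.push g').obj (I.cocomplex.X m)) ≫
        (EtCoh.push π').map (EtCoh.baseChange0 g' f'' h' e w (I.cocomplex.X m) ≫ (EtCoh.push h').map (ψ.f m)) ≫
          (EtCoh.pushComp π' h').hom.app (J.cocomplex.X m)
    rw [reassoc_of% (baseChange0_hcomp f' π π' f'' hX.flip.w g' h' e w w'' (I.cocomplex.X m)), Functor.map_comp]
    simp only [Category.assoc]
    refine congrArg (fun t => _ ≫ _ ≫ t) ?_
    exact ((EtCoh.pushComp π' h').hom.naturality (ψ.f m)).symm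
  haveI : IsIso α := by
    haveI : IsIso ((NatTrans.mapHomologicalComplex (EtCoh.pushComp π g').hom (ComplexShape.up ℕ)).app I.cocomplex) := by
      haveI : ∀ m, IsIso (((NatTrans.mapHomologicalComplex (EtCoh.pushComp π g').hom (ComplexShape.up ℕ)).app
        I.cocomplex).f m) := fun m => inferInstanceAs (IsIso ((EtCoh.pushComp π g').hom.app (I.cocomplex.X m)))
      exact HomologicalComplex.Hom.isIso_of_components _
    infer_instance
  haveI : IsIso γ := by
    haveI : ∀ m, IsIso (γ.f m) := fun m =>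
      S0655.result π f' π' f'' hX.flip ((EtCoh.push g').obj (I.cocomplex.X m))
    exact HomologicalComplex.Hom.isIso_of_components _
  haveI : IsIso β := by
    haveI : ∀ m, IsIso (β.f m) := fun m => inferInstanceAs (IsIso ((EtCoh.pushComp π' h').hom.app (J.cocomplex.X m)))
    exact HomologicalComplex.Hom.isIso_of_components _
  rw [← quasiIsoAt_iff_comp_left α _ q, key, quasiIsoAt_iff_comp_left γ (θ ≫ β) q,
    quasiIsoAt_iff_comp_right θ β q, quasiIsoAt_map_iff]
  rw [quasiIsoAt_iff_isIso_homologyMap] at h₁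
  infer_instance

end Base

end Groth.Agent.EtBCFib
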