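import Mathlib.AlgebraicGeometry.Morphisms.Integral
import Mathlib.AlgebraicGeometry.FunctionField
import Mathlib.AlgebraicGeometry.Morphisms.UnderlyingMap
import Mathlib.RingTheory.Algebraic.Integral
import Mathlib.RingTheory.IntegralClosure.IntegrallyClosed
import Mathlib.RingTheory.Localization.Integral
import Mathlib.FieldTheory.IsAlgClosed.Basic
import Mathlib.RingTheory.LocalProperties.IntegrallyClosed
import Mathlib.RingTheory.Spectrum.Prime.Topology

/-!
# An algebraically closed point factors dominantly through a normal integral scheme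
-/

set_option autoImplicit false
set_option linter.style.haveILetI false

universe u

open CategoryTheory CategoryTheory.Limits AlgebraicGeometry

namespace Groth.Agent.EtBCFib

set_option backward.isDefEq.respectTransparency false
set_option backward.isDefEq.respectTransparency.types false

theorem stalk_integrallyClosed {B : Type u} [CommRing B] [IsDomain B] [IsIntegrallyClosed B]
    (c : ↥(Spec (CommRingCat.of B))) : IsIntegrallyClosed ((Spec (CommRingCat.of B)).presheaf.stalk c) := by
  letI : Algebra B ((Spec (CommRingCat.of B)).presheaf.stalk c) := StructureSheaf.stalkAlgebra B c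
  haveI : IsLocalization.AtPrime ((Spec (CommRingCat.of B)).presheaf.stalk c) c.asIdeal :=
    StructureSheaf.IsLocalization.to_stalk (CommRingCat.of B) c
  haveI : IsDomain ((Spec (CommRingCat.of B)).presheaf.stalk c) :=
    IsLocalization.isDomain_of_le_nonZeroDivisors ((Spec (CommRingCat.of B)).presheaf.stalk c)
      (M := c.asIdeal.primeCompl) c.asIdeal.primeCompl_le_nonZeroDivisors
  exact isIntegrallyClosed_of_isLocalization _ c.asIdeal.primeCompl c.asIdeal.primeCompl_le_nonZeroDivisors

/-- the integral closure in an algebraically closed field is normal with algebraically closed fraction field -/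
theorem integralClosure_normal (A : Type u) [CommRing A] (K : Type u) [Field K] [IsAlgClosed K] [Algebra A K] :
    IsIntegrallyClosed (integralClosure A K) ∧ IsAlgClosed (FractionRing (integralClosure A K)) := by
  let R := integralClosure A K
  let F := FractionRing R
  have hinj : Function.Injective (algebraMap R K) := Subtype.val_injective
  let ψ : F →+* K := IsFractionRing.lift hinj
  letI : Algebra F K := ψ.toAlgebra
  haveI : IsScalarTower R F K := IsScalarTower.of_algebraMap_eq fun r => (IsFractionRing.lift_algebraMap hinj r).symm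
  constructor
  · refine (isIntegrallyClosed_iff F).mpr fun {x} hx => ?_
    have h1 : IsIntegral R (algebraMap F K x) := hx.map (IsScalarTower.toAlgHom R F K)
    have h2 : IsIntegral A (algebraMap F K x) := isIntegral_trans _ h1
    refine ⟨⟨_, h2⟩, (algebraMap F K).injective ?_⟩
    exact (IsScalarTower.algebraMap_apply R F K _).symm
  · refine IsAlgClosed.of_exists_root _ fun p hp hirr => ?_
    have hdeg : p.degree ≠ 0 := (Polynomial.degree_pos_of_irreducible hirr).ne'
    obtain ⟨x, hx⟩ := IsAlgClosed.exists_aeval_eq_zero K p hdeg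
    have hxR : IsAlgebraic R x := (IsFractionRing.isAlgebraic_iff R F K).2 ⟨p, hirr.ne_zero, hx⟩
    obtain ⟨y, hy, hyx⟩ := hxR.exists_integral_multiple
    have h2 : IsIntegral A (y • x) := isIntegral_trans _ hyx
    refine ⟨IsLocalization.mk' F (⟨_, h2⟩ : R) (⟨y, mem_nonZeroDivisors_of_ne_zero hy⟩ : nonZeroDivisors R), ?_⟩
    apply (algebraMap F K).injective
    rw [map_zero, ← hx, Polynomial.aeval_def]
    refine (Polynomial.eval₂_at_apply (algebraMap F K) _).symm.trans (congrArg (fun t => Polynomial.eval₂ (algebraMap F K) t p) ?_)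
    have hy0 : (algebraMap R K) y ≠ 0 := (map_ne_zero_iff _ hinj).2 hy
    refine mul_right_cancel₀ hy0 ?_
    conv_lhs => rw [IsScalarTower.algebraMap_apply R F K y, ← map_mul, IsLocalization.mk'_spec F (⟨_, h2⟩ : R)
      (⟨y, mem_nonZeroDivisors_of_ne_zero hy⟩ : nonZeroDivisors R), ← IsScalarTower.algebraMap_apply R F K]
    exact (Algebra.smul_def y x).trans (mul_comm _ _)

theorem isAlgClosed_functionField (B : CommRingCat.{u}) [IsDomain B] (Ω : Type u) [Field Ω] [IsAlgClosed Ω]
    [Algebra B Ω] [IsFractionRing B Ω] : IsAlgClosed (Spec B).functionField :=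
  IsAlgClosed.of_ringEquiv Ω _ (IsLocalization.algEquiv (nonZeroDivisors B) Ω (Spec B).functionField).toRingEquiv

/-- A geometric point of an affine scheme factors as a dominant map to a normal integral affine scheme with
algebraically closed function field, followed by an integral morphism. -/
theorem exists_normal_factor {S : Scheme.{u}} [IsAffine S] {K : Type u} [Field K] [IsAlgClosed K]
    (g : Spec (CommRingCat.of K) ⟶ S) :
    ∃ (S' : Scheme.{u}) (π : S' ⟶ S) (g' : Spec (CommRingCat.of K) ⟶ S') (_ : IsAffine S') (_ : IsIntegral S')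
      (_ : ∀ s : S', IsIntegrallyClosed (S'.presheaf.stalk s)) (_ : IsAlgClosed S'.functionField),
      IsIntegralHom π ∧ IsDominant g' ∧ g' ≫ π = g := by
  let A : CommRingCat.{u} := Γ(S, ⊤)
  let φ : A ⟶ CommRingCat.of K := Spec.preimage (g ≫ S.isoSpec.hom)
  have hφ : Spec.map φ = g ≫ S.isoSpec.hom := Spec.map_preimage _
  letI : Algebra A K := φ.hom.toAlgebra
  let R := integralClosure A K
  obtain ⟨hN, hF⟩ := integralClosure_normal A K
  let ι : CommRingCat.of R ⟶ CommRingCat.of K := CommRingCat.ofHom (algebraMap R K)
  haveI : IsIntegralHom (Spec.map (CommRingCat.ofHom (algebraMap A R))) :=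
    (IsIntegralHom.SpecMap_iff).mpr (algebraMap_isIntegral_iff.mpr inferInstance)
  haveI : IsIntegralHom S.isoSpec.inv := inferInstance
  refine ⟨Spec (CommRingCat.of R), Spec.map (CommRingCat.ofHom (algebraMap A R)) ≫ S.isoSpec.inv, Spec.map ι,
    inferInstance, inferInstance, fun s => stalk_integrallyClosed s, ?_, inferInstance, ?_, ?_⟩
  · exact isAlgClosed_functionField (CommRingCat.of R) (FractionRing R)
  · refine ⟨(PrimeSpectrum.denseRange_comap_iff_ker_le_nilRadical _).2 ?_⟩
    rw [show RingHom.ker ι.hom = ⊥ from (RingHom.injective_iff_ker_eq_bot _).1 Subtype.val_injective]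
    exact bot_le
  · rw [← Category.assoc, ← Spec.map_comp, show CommRingCat.ofHom (algebraMap A R) ≫ ι = φ from CommRingCat.hom_ext
      (RingHom.ext fun a => rfl), hφ, Category.assoc, Iso.hom_inv_id, Category.comp_id]

end Groth.Agent.EtBCFib
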