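import Groth.Agent.EtTorLib.Sections
import Groth.Agent.EtContLib.Germs
import Groth.Agent.EtFound.Presentation
import Mathlib.Topology.Spectral.ConstructibleTopology
import Mathlib.AlgebraicGeometry.Properties

/-!
# Where sections of étale sheaves vanish, in the constructible topology
-/

set_option autoImplicit false
set_option linter.style.haveILetI false

universe u

open CategoryTheory CategoryTheory.Limits AlgebraicGeometry Opposite Topology

namespace Groth.Agent.EtBCFib

set_option backward.isDefEq.respectTransparency.types false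

variable (T : Scheme.{u})

/-- basic clopens of the constructible topology -/
abbrev Piece : Type u := {s : Set T // s ∈ constructibleTopologySubbasis T}

/-- the basic clopens containing a point -/
abbrev PieceAt (t : T) : Type u := {s : Piece T // t ∈ s.1}

/-- the constructible neighbourhood cut out by finitely many basic clopens -/
def nbhd {t : T} (C : Finset (PieceAt T t)) : Set T := {y | ∀ s ∈ C, y ∈ s.1.1}

variable {T}

theorem mem_nbhd {t : T} (C : Finset (PieceAt T t)) : t ∈ nbhd T C := fun s _ => s.2

theorem nbhd_anti {t : T} {C C' : Finset (PieceAt T t)} (h : C ⊆ C') : nbhd T C' ⊆ nbhd T C :=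
  fun _ hy s hs => hy s (h hs)

theorem isOpen_nbhd {t : T} (C : Finset (PieceAt T t)) : IsOpen[constructibleTopology T] (nbhd T C) := by
  letI := constructibleTopology T
  have : nbhd T C = ⋂ s ∈ C, s.1.1 := by ext y; simp [nbhd]
  rw [this]
  exact isOpen_biInter_finset fun s _ => TopologicalSpace.isOpen_generateFrom_of_mem s.1.2

/-- Distinct points are separated by a basic clopen. -/
theorem exists_piece_separating {y t : T} (h : y ≠ t) : ∃ s : PieceAt T t, y ∉ s.1.1 := by
  obtain ⟨O, hO, hyt⟩ : ∃ O : Set T, IsOpen O ∧ ¬(y ∈ O ↔ t ∈ O) := by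
    by_contra! H
    exact h ((inseparable_iff_forall_isOpen.2 H).eq)
  by_cases hy : y ∈ O
  · obtain ⟨U, ⟨hUo, hUc⟩, hyU, hUO⟩ := PrespectralSpace.isTopologicalBasis.exists_subset_of_mem_open hy hO
    have ht : t ∉ U := fun ht => hyt ⟨fun _ => hUO ht, fun _ => hy⟩
    refine ⟨⟨⟨Uᶜ, Or.inr ⟨hUo.isClosed_compl, ?_⟩⟩, ht⟩, fun H => H hyU⟩
    rwa [compl_compl]
  · have ht : t ∈ O := by by_contra ht; exact hyt ⟨fun H => (hy H).elim, fun H => (ht H).elim⟩
    obtain ⟨U, ⟨hUo, hUc⟩, htU, hUO⟩ := PrespectralSpace.isTopologicalBasis.exists_subset_of_mem_open ht hO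
    exact ⟨⟨⟨U, Or.inl ⟨hUo, hUc⟩⟩, htU⟩, fun H => hy (hUO H)⟩

/-- A quasi-compact map is continuous for the constructible topologies. -/
theorem continuous_constructible {V : Scheme.{u}} (p : V ⟶ T) [QuasiCompact p] :
    Continuous[constructibleTopology V, constructibleTopology T] p.base := by
  refine continuous_generateFrom_iff.2 fun s hs => ?_
  obtain ⟨ho, hc⟩ | ⟨hcl, hc⟩ := hs
  · exact (QuasiCompact.isCompact_preimage (f := p) s ho hc).isOpen_constructibleTopology_of_isOpen (ho.preimage p.continuous)
  · refine IsCompact.isOpen_constructibleTopology_of_isClosed ?_ (hcl.preimage p.continuous)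
    rw [← Set.preimage_compl]
    exact QuasiCompact.isCompact_preimage (f := p) _ hcl.isOpen_compl hc

theorem isOpen_constructible_of_isOpen {V : Scheme.{u}} {O : Set V} (hO : IsOpen O) :
    IsOpen[constructibleTopology V] O := by
  refine (@isOpen_iff_forall_mem_open V (constructibleTopology V) O).2 fun x hx => ?_
  obtain ⟨U, ⟨hUo, hUc⟩, hxU, hUO⟩ := PrespectralSpace.isTopologicalBasis.exists_subset_of_mem_open hx hO
  exact ⟨U, hUO, hUc.isOpen_constructibleTopology_of_isOpen hUo, hxU⟩

theorem compactSpace_constructible [CompactSpace T] [QuasiSeparatedSpace T] :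
    @CompactSpace T (constructibleTopology T) :=
  @Function.Surjective.compactSpace (WithConstructibleTopology T) T _ (constructibleTopology T)
    WithTopology.ofTopology (WithTopology.continuous_ofTopology _) compactSpace_withConstructibleTopology
    (fun x => ⟨WithTopology.toTopology _ x, rfl⟩)

/-- The inclusion of the point. -/
noncomputable abbrev ptIncl (t : T) : Spec (T.residueField t) ⟶ T := T.fromSpecResidueField t

variable [QuasiSeparatedSpace T] (F : EtCoh.Ab T)

/-- the points where a section is zero form an open set -/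
def killSet {V : T.Etale} (s : F.obj.obj (op V)) : Set V.left :=
  {v | ∃ (W : T.Etale) (g : W ⟶ V) (w : W.left), g.left.base w = v ∧ F.obj.map g.op s = 0}

omit [QuasiSeparatedSpace T] in
theorem isOpen_killSet {V : T.Etale} (s : F.obj.obj (op V)) : IsOpen (killSet F s) := by
  refine isOpen_iff_forall_mem_open.2 ?_
  rintro v ⟨W, g, w, rfl, hw⟩
  refine ⟨Set.range g.left.base, ?_, ?_, Set.mem_range_self w⟩
  · rintro _ ⟨w', rfl⟩
    exact ⟨W, g, w', rfl, hw⟩
  · haveI : Etale W.hom := W.prop
    haveI : Etale V.hom := V.prop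
    haveI : Etale (g.left ≫ V.hom) := by rw [MorphismProperty.Over.w g]; infer_instance
    haveI : Etale g.left := Etale.of_comp g.left V.hom
    exact g.left.isOpenMap.isOpen_range

omit [QuasiSeparatedSpace T] in
theorem mem_killSet_of_unit {V : T.Etale} (s : F.obj.obj (op V)) (t : T)
    (h : EtContLib.unitSec (ptIncl t) F V s = 0) (v : V.left) (hv : V.hom.base v = t) : v ∈ killSet F s := by
  obtain ⟨z, hz, -⟩ := Scheme.Pullback.exists_preimage_pullback v (default : Spec (T.residueField t))
    (hv.trans (Scheme.fromSpecResidueField_apply t _).symm)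
  obtain ⟨W, g, w, hw, hg⟩ := EtContLib.exists_kill_of_unitSec_eq_zero (ptIncl t) F s h z
  exact ⟨W, g, w, hw.trans hz, hg⟩

/-- A section zero over a point is zero over a constructible neighbourhood. -/
theorem exists_nbhd_killed {V : T.Etale} [IsAffine V.left] (s : F.obj.obj (op V)) (t : T)
    (h : EtContLib.unitSec (ptIncl t) F V s = 0) :
    ∃ C : Finset (PieceAt T t), V.hom.base ⁻¹' nbhd T C ⊆ killSet F s := by
  classical
  haveI : QuasiSeparated (terminal.from T) := (quasiSeparatedSpace_iff_quasiSeparated T).1 inferInstance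
  haveI : QuasiCompact (terminal.from V.left) := (compactSpace_iff_quasiCompact V.left).1 inferInstance
  haveI : QuasiCompact (V.hom ≫ terminal.from T) :=
    (terminal.hom_ext (V.hom ≫ terminal.from T) (terminal.from V.left)).symm ▸ ‹QuasiCompact (terminal.from V.left)›
  haveI : QuasiCompact V.hom := QuasiCompact.of_comp V.hom (terminal.from T)
  have hK : @IsCompact V.left (constructibleTopology V.left) (killSet F s)ᶜ :=
    @IsClosed.isCompact V.left (constructibleTopology V.left) _ (compactSpace_constructible (T := V.left))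
      ((@isClosed_compl_iff V.left (constructibleTopology V.left) _).2
        (isOpen_constructible_of_isOpen (isOpen_killSet F s)))
  have hsep : ∀ v ∈ (killSet F s)ᶜ, ∃ p : PieceAt T t, V.hom.base v ∉ p.1.1 := fun v hv =>
    exists_piece_separating fun e => hv (mem_killSet_of_unit F s t h v e)
  have hop : ∀ p : PieceAt T t, IsOpen[constructibleTopology V.left] (V.hom.base ⁻¹' p.1.1ᶜ) := fun p =>
    @Continuous.isOpen_preimage _ _ (constructibleTopology V.left) (constructibleTopology T) _
      (continuous_constructible V.hom) _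
      (TopologicalSpace.isOpen_generateFrom_of_mem (compl_mem_constructibleTopologySubbasis_iff.2 p.1.2))
  obtain ⟨C, hC⟩ := @IsCompact.elim_finite_subcover _ (constructibleTopology V.left) _ _ hK (fun p : PieceAt T t => V.hom.base ⁻¹' p.1.1ᶜ) hop
    (fun v hv => Set.mem_iUnion.2 (hsep v hv))
  refine ⟨C, fun v hv => ?_⟩
  by_contra hv'
  obtain ⟨p, hp, hvp⟩ := Set.mem_iUnion₂.1 (hC hv')
  exact hvp (hv p hp)

end Groth.Agent.EtBCFib
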